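import Mathlib

set_option autoImplicit false

namespace CfsgLib.TwoGroups

variable {G : Type*} [Group G] [Finite G]

/-- An element of prime-power order centralising a Sylow subgroup lies in it. -/
theorem mem_sylow_of_commute {p : ℕ} [Fact p.Prime] (P : Sylow p G) {t : G} {k : ℕ}
    (ht : orderOf t = p ^ k) (hP : ∀ x ∈ (P : Subgroup G), Commute x t) : t ∈ (P : Subgroup G) := by
  have hz : IsPGroup p (Subgroup.zpowers t) :=
    IsPGroup.of_card (n := k) (by rw [Nat.card_zpowers, ht])
  have hn : (Subgroup.zpowers t) ≤ Subgroup.normalizer ((P : Subgroup G) : Set G) := by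
    refine le_trans ?_ (Subgroup.centralizer_le_normalizer _)
    rw [Subgroup.zpowers_le, Subgroup.mem_centralizer_iff]
    exact fun x hx => (hP x hx).eq
  have hs : IsPGroup p ((Subgroup.zpowers t) ⊔ (P : Subgroup G) : Subgroup G) :=
    hz.to_sup_of_normal_right' P.isPGroup' hn
  rw [← P.is_maximal' hs le_sup_right]
  exact Subgroup.mem_sup_left (Subgroup.mem_zpowers t)

/-- A Sylow 2-subgroup of a group of even order has a central involution. -/
theorem exists_involution_commute (h : 2 ∣ Nat.card G) (S : Sylow 2 G) :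
    ∃ t : G, orderOf t = 2 ∧ t ∈ (S : Subgroup G) ∧ ∀ s ∈ (S : Subgroup G), Commute s t := by
  have : Nontrivial (S : Subgroup G) :=
    (Subgroup.nontrivial_iff_ne_bot _).mpr (S.ne_bot_of_dvd_card h)
  have hc := S.isPGroup'.center_nontrivial
  obtain ⟨k, hk⟩ :=
    IsPGroup.iff_card.mp (S.isPGroup'.to_subgroup (Subgroup.center (S : Subgroup G)))
  have hdvd : 2 ∣ Nat.card (Subgroup.center (S : Subgroup G)) := by
    rcases k with - | k
    · have := Finite.one_lt_card (α := Subgroup.center (S : Subgroup G))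
      rw [hk, pow_zero] at this
      exact absurd this (lt_irrefl 1)
    · rw [hk, pow_succ']; exact dvd_mul_right 2 _
  obtain ⟨t, ht⟩ := exists_prime_orderOf_dvd_card' 2 hdvd
  refine ⟨((t : (S : Subgroup G)) : G), by rw [Subgroup.orderOf_coe, Subgroup.orderOf_coe]; exact ht,
    (t : (S : Subgroup G)).2, fun s hs => ?_⟩
  exact congrArg Subtype.val (Subgroup.mem_center_iff.mp t.2 ⟨s, hs⟩)

end CfsgLib.TwoGroups
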