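import Cfsg.Agent.Transfer.AbelianSylow
import Mathlib.Data.ZMod.Basic
import Mathlib.GroupTheory.Perm.Basic

/-!
# Sylow 2-subgroups isomorphic to a product of two cyclic groups of the same order
-/

set_option autoImplicit false

namespace CfsgLib.TwoGroups.Homocyclic

/-- An automorphism of odd order of an abelian 2-group fixing all involutions is trivial. -/
theorem aut_apply_eq_self {A : Type*} [CommGroup A] (φ : MulAut A) (n : ℕ) (hn : Odd n)
    (hφ : φ ^ n = 1) (hfix : ∀ t : A, t * t = 1 → φ t = t) :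
    ∀ (k : ℕ) (x : A), x ^ (2 ^ k) = 1 → φ x = x := by
  intro k
  induction k with
  | zero => intro x hx; rw [pow_zero, pow_one] at hx; rw [hx, map_one]
  | succ k ih =>
    intro x hx
    have h2 : φ (x * x) = x * x := ih (x * x) (by
      rw [← pow_two, ← pow_mul, ← pow_succ']; exact hx)
    set t := x⁻¹ * φ x with ht
    have ht2 : t * t = 1 := by
      rw [ht, mul_mul_mul_comm, ← map_mul, h2, ← mul_inv, inv_mul_cancel]
    have hj : ∀ j : ℕ, (φ ^ j) x = x * t ^ j := by
      intro j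
      induction j with
      | zero => simp
      | succ j ihj =>
        rw [pow_succ', MulAut.mul_apply, ihj, map_mul, map_pow, hfix t ht2, pow_succ',
          ← mul_assoc, ht, mul_inv_cancel_left]
    obtain ⟨j, rfl⟩ := hn
    have hn1 := hj (2 * j + 1)
    rw [hφ, MulAut.one_apply, pow_succ, pow_mul, pow_two, ht2, one_pow, one_mul,
      left_eq_mul] at hn1
    calc φ x = x * t := by rw [ht, mul_inv_cancel_left]
      _ = x := by rw [hn1, mul_one]

/-- The involutions of `ZMod (2 ^ m) × ZMod (2 ^ m)`. -/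
theorem card_involutions (m : ℕ) (hm : 1 ≤ m) :
    Nat.card {a : Multiplicative (ZMod (2 ^ m) × ZMod (2 ^ m)) // a * a = 1 ∧ a ≠ 1} = 3 := by
  classical
  haveI : NeZero (2 ^ m) := ⟨by positivity⟩
  set c : ZMod (2 ^ m) := ((2 ^ (m - 1) : ℕ) : ZMod (2 ^ m)) with hc
  have hpow : 2 * 2 ^ (m - 1) = 2 ^ m := by rw [← pow_succ', Nat.sub_add_cancel hm]
  have hc0 : c ≠ 0 := by
    rw [hc, Ne, ZMod.natCast_eq_zero_iff]
    intro h
    have := Nat.le_of_dvd (by positivity) h
    have : 0 < 2 ^ (m - 1) := by positivity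
    omega
  have hc2 : c + c = 0 := by
    rw [hc, ← Nat.cast_add, ← two_mul, hpow, ZMod.natCast_self]
  have hkey : ∀ a : ZMod (2 ^ m), a + a = 0 → a = 0 ∨ a = c := by
    intro a ha
    have h1 : 2 ^ m ∣ a.val + a.val := by
      rw [← ZMod.natCast_eq_zero_iff, Nat.cast_add, ZMod.natCast_val, ZMod.cast_id]
      exact ha
    have h2 := a.val_lt
    obtain ⟨q, hq⟩ := h1
    have hq2 : q < 2 := by
      by_contra hq2
      have : 2 ^ m * 2 ≤ 2 ^ m * q := Nat.mul_le_mul_left _ (not_lt.1 hq2)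
      omega
    interval_cases q
    · left; exact (ZMod.val_eq_zero a).1 (by omega)
    · right
      have h3 : a.val = 2 ^ (m - 1) := by omega
      rw [hc, ← h3, ZMod.natCast_val, ZMod.cast_id]
  have hset : {a : Multiplicative (ZMod (2 ^ m) × ZMod (2 ^ m)) | a * a = 1 ∧ a ≠ 1} =
      {Multiplicative.ofAdd (c, 0), Multiplicative.ofAdd (0, c), Multiplicative.ofAdd (c, c)} := by
    ext a
    obtain ⟨⟨x, y⟩, rfl⟩ := Multiplicative.ofAdd.surjective a
    simp only [Set.mem_setOf_eq, Set.mem_insert_iff, Set.mem_singleton_iff, EmbeddingLike.apply_eq_iff_eq,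
      ← ofAdd_add, ofAdd_eq_one, Prod.mk_add_mk, Prod.mk.injEq, ne_eq, Prod.mk_eq_zero]
    constructor
    · rintro ⟨⟨hx, hy⟩, hne⟩
      rcases hkey x hx with rfl | rfl <;> rcases hkey y hy with rfl | rfl <;> simp_all
    · rintro (⟨rfl, rfl⟩ | ⟨rfl, rfl⟩ | ⟨rfl, rfl⟩) <;> simp [hc2, hc0]
  rw [show {a : Multiplicative (ZMod (2 ^ m) × ZMod (2 ^ m)) // a * a = 1 ∧ a ≠ 1} =
    ↥{a : Multiplicative (ZMod (2 ^ m) × ZMod (2 ^ m)) | a * a = 1 ∧ a ≠ 1} from rfl, hset,
    Nat.card_coe_set_eq, Set.ncard_eq_three]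
  exact ⟨_, _, _, by simp [hc0], by simp [hc0, Ne.symm hc0], by simp [hc0, Ne.symm hc0], rfl⟩

theorem perm_three_fix : ∀ σ : Equiv.Perm (Fin 3), σ * σ * σ = 1 → ∀ u, σ u = u → σ = 1 := by
  decide

theorem perm_three_orbit : ∀ σ : Equiv.Perm (Fin 3), σ * σ * σ = 1 → σ ≠ 1 →
    ∀ u v, v = u ∨ v = σ u ∨ v = σ (σ u) := by
  decide

/-- For a Sylow 2-subgroup `P ≅ C × C` (C cyclic), `|N(P) : C(P)|` is 1 or 3, and in the latter
case an element of the normalizer fixing an involution of `P` centralizes `P`, and the normalizer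
is transitive on the involutions of `P`. -/
theorem normalizer_data {G : Type*} [Group G] [Finite G] (P : Sylow 2 G) (m : ℕ) (hm : 1 ≤ m)
    (e : (P : Subgroup G) ≃* Multiplicative (ZMod (2 ^ m) × ZMod (2 ^ m))) :
    ((Subgroup.centralizer (P : Set G)).relIndex (Subgroup.normalizer (P : Set G)) = 1 ∨
      (Subgroup.centralizer (P : Set G)).relIndex (Subgroup.normalizer (P : Set G)) = 3) ∧
    ((Subgroup.centralizer (P : Set G)).relIndex (Subgroup.normalizer (P : Set G)) ≠ 1 →
      (∀ g ∈ Subgroup.normalizer (P : Set G), ∀ z ∈ (P : Subgroup G), z * z = 1 → z ≠ 1 →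
        g * z * g⁻¹ = z → g ∈ Subgroup.centralizer (P : Set G)) ∧
      ∀ u ∈ (P : Subgroup G), ∀ v ∈ (P : Subgroup G), u * u = 1 → u ≠ 1 → v * v = 1 → v ≠ 1 →
        ∃ g ∈ Subgroup.normalizer (P : Set G), g * u * g⁻¹ = v) := by
  classical
  haveI : Fact (Nat.Prime 2) := ⟨Nat.prime_two⟩
  set N := Subgroup.normalizer (P : Set G) with hN
  set C := Subgroup.centralizer (P : Set G) with hC
  letI : CommGroup (P : Subgroup G) :=
    { (inferInstance : Group (P : Subgroup G)) with
      mul_comm := fun a b => e.injective (by rw [map_mul, map_mul, mul_comm]) }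
  -- the action of the normalizer on the involutions
  let Ω := {a : (P : Subgroup G) // a * a = 1 ∧ a ≠ 1}
  have hΩ : Nat.card Ω = 3 := by
    rw [← card_involutions m hm]
    refine Nat.card_congr (e.toEquiv.subtypeEquiv fun a => ?_)
    show a * a = 1 ∧ a ≠ 1 ↔ e a * e a = 1 ∧ e a ≠ 1
    rw [← map_mul, MulEquiv.map_eq_one_iff, Ne, Ne, MulEquiv.map_eq_one_iff]
  have hconj : ∀ (n : N) (a : G), a ∈ (P : Subgroup G) → (n : G) * a * (n : G)⁻¹ ∈ (P : Subgroup G) :=
    fun n a ha => (Subgroup.mem_normalizer_iff.1 n.2 a).1 ha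
  let act : N →* MulAut (P : Subgroup G) :=
    MonoidHom.mk' (fun n =>
      { toFun := fun a => ⟨(n : G) * a * (n : G)⁻¹, hconj n a a.2⟩
        invFun := fun a => ⟨(n : G)⁻¹ * a * (n : G), by simpa using hconj n⁻¹ a a.2⟩
        left_inv := fun a => Subtype.ext (by simp [mul_assoc])
        right_inv := fun a => Subtype.ext (by simp [mul_assoc])
        map_mul' := fun a b => Subtype.ext (by simp [mul_assoc]) })
      fun n k => MulEquiv.ext fun a => Subtype.ext (by simp [mul_assoc])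
  let perm : MulAut (P : Subgroup G) →* Equiv.Perm Ω :=
    MonoidHom.mk' (fun φ => φ.toEquiv.subtypeEquiv fun a => by
        show a * a = 1 ∧ a ≠ 1 ↔ φ a * φ a = 1 ∧ φ a ≠ 1
        rw [← map_mul, MulEquiv.map_eq_one_iff, Ne, Ne, MulEquiv.map_eq_one_iff])
      fun φ ψ => Equiv.ext fun a => Subtype.ext rfl
  set f := perm.comp act with hf
  have hker : f.ker = C.subgroupOf N := by
    ext n
    rw [MonoidHom.mem_ker, Subgroup.mem_subgroupOf]
    constructor
    · intro hn
      obtain ⟨a, b, ha, hb, hab, ⟨k, hk⟩, hcop⟩ :=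
        CfsgLib.Transfer.exists_pPart_decomposition (p := 2) (n : G)
      have haN : a ∈ N := Subgroup.zpowers_le.2 n.2 ha
      have hbN : b ∈ N := Subgroup.zpowers_le.2 n.2 hb
      have haP := CfsgLib.Transfer.mem_sylow_of_pElement P haN hk
      have haC : a ∈ C := fun u hu =>
        congrArg Subtype.val (mul_comm (⟨u, hu⟩ : (P : Subgroup G)) ⟨a, haP⟩)
      have hb' : f ⟨b, hbN⟩ = 1 := by
        have h1 : f ⟨a, haN⟩ = 1 := by
          refine Equiv.ext fun x => Subtype.ext (Subtype.ext ?_)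
          show a * (x.1 : G) * a⁻¹ = x.1
          rw [← haC x.1 x.1.2, mul_inv_cancel_right]
        have h2 : n = (⟨a, haN⟩ : N) * ⟨b, hbN⟩ := Subtype.ext hab
        rw [h2, map_mul, h1, one_mul] at hn
        exact hn
      have hfix := aut_apply_eq_self (act ⟨b, hbN⟩) (orderOf b)
        (Nat.coprime_two_right.1 hcop) (by
          rw [← map_pow, show (⟨b, hbN⟩ : N) ^ orderOf b = 1 from
            Subtype.ext (by simp [pow_orderOf_eq_one]), map_one])
        (fun t ht => by
          by_cases ht1 : t = 1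
          · rw [ht1, map_one]
          · exact congrArg Subtype.val (congrFun (congrArg (⇑) hb') (⟨t, ht, ht1⟩ : Ω)))
      rw [hab]
      refine C.mul_mem haC fun u hu => ?_
      obtain ⟨j, hj⟩ := P.isPGroup' ⟨u, hu⟩
      have h3 := congrArg Subtype.val (hfix j ⟨u, hu⟩ hj)
      calc u * b = b * u * b⁻¹ * b := by rw [show b * u * b⁻¹ = u from h3]
        _ = b * u := inv_mul_cancel_right _ _
    · intro hn
      refine Equiv.ext fun x => Subtype.ext (Subtype.ext ?_)
      show (n : G) * (x.1 : G) * (n : G)⁻¹ = x.1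
      rw [← hn x.1 x.1.2, mul_inv_cancel_right]
  have hrel : C.relIndex N = Nat.card f.range := by
    rw [← Subgroup.index_ker, hker]; rfl
  have hodd : ¬ 2 ∣ C.relIndex N := by
    have hPC : (P : Subgroup G) ≤ C := fun a ha u hu =>
      congrArg Subtype.val (mul_comm (⟨u, hu⟩ : (P : Subgroup G)) ⟨a, ha⟩)
    intro h
    exact P.not_dvd_index (h.trans ((Subgroup.relIndex_dvd_of_le_left N hPC).trans
      (Subgroup.relIndex_dvd_index_of_le Subgroup.le_normalizer)))
  haveI : Finite Ω := inferInstance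
  obtain ⟨θ⟩ : Nonempty (Ω ≃ Fin 3) := ⟨Finite.equivFinOfCardEq hΩ⟩
  have hdvd : C.relIndex N ∣ 6 := by
    rw [hrel]
    have h6 : Nat.card (Equiv.Perm Ω) = 6 := by
      rw [Nat.card_congr θ.permCongr, Nat.card_eq_fintype_card, Fintype.card_perm, Fintype.card_fin]
      rfl
    exact h6 ▸ Subgroup.card_subgroup_dvd_card f.range
  have h13 : C.relIndex N = 1 ∨ C.relIndex N = 3 := by
    have h6 := Nat.le_of_dvd (by norm_num) hdvd
    interval_cases hh : C.relIndex N <;> omega
  refine ⟨h13, fun hne => ?_⟩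
  have h3 : Nat.card f.range = 3 := hrel ▸ h13.resolve_left hne
  let π : N →* Equiv.Perm (Fin 3) := (θ.permCongrHom.toMonoidHom).comp f
  have hcube : ∀ n : N, π n * π n * π n = 1 := by
    intro n
    have h1 : (⟨f n, ⟨n, rfl⟩⟩ : f.range) ^ 3 = 1 := h3 ▸ pow_card_eq_one'
    have h2 : f n ^ 3 = 1 := congrArg Subtype.val h1
    have h4 : π n ^ 3 = 1 := by
      show (θ.permCongrHom (f n)) ^ 3 = 1
      rw [← map_pow, h2, map_one]
    rw [← h4, pow_succ, pow_two]
  have hπ : ∀ n : N, π n = 1 → (n : G) ∈ C := fun n hn => by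
    have h1 : f n = 1 := θ.permCongrHom.injective (hn.trans (map_one _).symm)
    exact Subgroup.mem_subgroupOf.1 (hker ▸ h1)
  have hval : ∀ (n : N) (a : Ω), π n (θ a) = θ (f n a) := fun n a => by
    show θ.permCongr (f n) (θ a) = _
    simp
  constructor
  · intro g hg z hz hz2 hz1 hgz
    let zΩ : Ω := ⟨⟨z, hz⟩, Subtype.ext hz2, fun h => hz1 (congrArg Subtype.val h)⟩
    refine hπ ⟨g, hg⟩ (perm_three_fix _ (hcube _) (θ zΩ) ?_)
    rw [hval]
    exact congrArg θ (Subtype.ext (Subtype.ext hgz))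
  · intro u hu v hv hu2 hu1 hv2 hv1
    let uΩ : Ω := ⟨⟨u, hu⟩, Subtype.ext hu2, fun h => hu1 (congrArg Subtype.val h)⟩
    let vΩ : Ω := ⟨⟨v, hv⟩, Subtype.ext hv2, fun h => hv1 (congrArg Subtype.val h)⟩
    obtain ⟨n, hn⟩ : ∃ n : N, π n ≠ 1 := by
      by_contra hall
      push Not at hall
      have : f.range = ⊥ := (Subgroup.eq_bot_iff_forall _).2 fun x ⟨y, hy⟩ =>
        hy ▸ θ.permCongrHom.injective ((hall y).trans (map_one _).symm)
      rw [this, Subgroup.card_bot] at h3
      omega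
    rcases perm_three_orbit _ (hcube n) hn (θ uΩ) (θ vΩ) with h | h | h
    · refine ⟨1, one_mem _, ?_⟩
      rw [one_mul, inv_one, mul_one]
      exact (congrArg (fun a : Ω => ((a.1 : (P : Subgroup G)) : G)) (θ.injective h)).symm
    · rw [hval] at h
      exact ⟨n, n.2, (congrArg (fun a : Ω => ((a.1 : (P : Subgroup G)) : G)) (θ.injective h)).symm⟩
    · rw [hval, hval, ← Equiv.Perm.mul_apply, ← map_mul] at h
      exact ⟨(n : G) * n, (n * n).2,
        (congrArg (fun a : Ω => ((a.1 : (P : Subgroup G)) : G)) (θ.injective h)).symm⟩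

end CfsgLib.TwoGroups.Homocyclic
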